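import Groth.Agent.ArtFunLib.Basic

/-!
# Surjections and essential surjections of Artinian local algebras through relative cotangent spaces
-/

set_option autoImplicit false
set_option linter.unusedSectionVars false

universe u

open CategoryTheory ArtFun ArtFun.Art IsLocalRing

namespace Groth.Agent.EssSurj

variable {Λ : Type u} {k : Type u} [CommRing Λ] [Field k] [Algebra Λ k]

lemma map_kerΛ_le (A : Art Λ k) :
    Ideal.map (algebraMap Λ A) (RingHom.ker (algebraMap Λ k)) ≤ maximalIdeal A :=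
  Ideal.map_le_iff_le_comap.mpr fun l hl => (A.mem_maximalIdeal_iff _).mpr ((A.res.commutes l).trans hl)

lemma map_kerΛ_map {A B : Art Λ k} (f : B ⟶ A) :
    Ideal.map f.toAlgHom (Ideal.map (algebraMap Λ B) (RingHom.ker (algebraMap Λ k))) =
      Ideal.map (algebraMap Λ A) (RingHom.ker (algebraMap Λ k)) := by
  refine le_antisymm (Ideal.map_le_iff_le_comap.mpr (Ideal.map_le_iff_le_comap.mpr fun l hl => ?_))
    (Ideal.map_le_iff_le_comap.mpr fun l hl => ?_)
  · rw [Ideal.mem_comap, Ideal.mem_comap, AlgHom.commutes]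
    exact Ideal.mem_map_of_mem _ hl
  · rw [Ideal.mem_comap, ← AlgHom.commutes f.toAlgHom l]
    exact Ideal.mem_map_of_mem _ (Ideal.mem_map_of_mem _ hl)

lemma map_maximalIdeal_le {A B : Art Λ k} (f : B ⟶ A) :
    Ideal.map f.toAlgHom (maximalIdeal B) ≤ maximalIdeal A :=
  Ideal.map_le_iff_le_comap.mpr fun b hb =>
    (A.mem_maximalIdeal_iff _).mpr ((res_app f b).trans ((B.mem_maximalIdeal_iff b).mp hb))

lemma map_maximalIdeal_eq {A B : Art Λ k} (f : B ⟶ A) (hf : Function.Surjective f) :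
    Ideal.map f.toAlgHom (maximalIdeal B) = maximalIdeal A := by
  refine le_antisymm (map_maximalIdeal_le f) fun a ha => ?_
  obtain ⟨b, rfl⟩ := hf a
  exact Ideal.mem_map_of_mem _
    ((B.mem_maximalIdeal_iff b).mpr ((res_app f b).symm.trans ((A.mem_maximalIdeal_iff _).mp ha)))

/-- A map is surjective as soon as it is so on relative cotangent spaces. -/
theorem surjective_of_cotangent {A B : Art Λ k} (f : B ⟶ A)
    (h : Ideal.map (algebraMap Λ A) (RingHom.ker (algebraMap Λ k)) ⊔ Ideal.map f.toAlgHom (maximalIdeal B) ⊔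
      maximalIdeal A ^ 2 = maximalIdeal A) : Function.Surjective f := by
  have hle : maximalIdeal A ≤ Ideal.map f.toAlgHom (maximalIdeal B) := by
    refine Submodule.le_of_le_smul_of_le_jacobson_bot (IsNoetherian.noetherian (maximalIdeal A))
      (I := maximalIdeal A) (IsLocalRing.maximalIdeal_le_jacobson _) ?_
    conv_lhs => rw [← h]
    refine sup_le (sup_le ?_ le_sup_left) ?_
    · rw [← map_kerΛ_map f]
      exact (Ideal.map_mono (map_kerΛ_le B)).trans le_sup_left
    · rw [sq]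
      exact le_sup_right
  have step : ∀ n, ∀ a : A, ∃ b : B, a - f b ∈ Ideal.map f.toAlgHom (maximalIdeal B ^ n) := by
    intro n
    induction n with
    | zero => exact fun a => ⟨0, by simp [Ideal.map_top]⟩
    | succ n ih =>
      intro a
      obtain ⟨b, hb⟩ := ih a
      suffices ∀ z ∈ Ideal.map f.toAlgHom (maximalIdeal B ^ n),
          ∃ b', z - f b' ∈ Ideal.map f.toAlgHom (maximalIdeal B ^ (n + 1)) by
        obtain ⟨b', hb'⟩ := this _ hb
        exact ⟨b + b', by rwa [map_add, ← sub_sub]⟩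
      intro z hz
      induction hz using Submodule.span_induction with
      | mem z hz =>
        obtain ⟨c, -, rfl⟩ := hz
        exact ⟨c, by simp⟩
      | zero => exact ⟨0, by simp⟩
      | add x y _ _ hx hy =>
        obtain ⟨b₁, h₁⟩ := hx
        obtain ⟨b₂, h₂⟩ := hy
        exact ⟨b₁ + b₂, by rw [map_add, add_sub_add_comm]; exact add_mem h₁ h₂⟩
      | smul r x hx ihx =>
        obtain ⟨t, ht⟩ := B.res_surjective (A.res r)
        have hr : r - f t ∈ Ideal.map f.toAlgHom (maximalIdeal B) :=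
          hle ((A.mem_maximalIdeal_iff _).mpr (by rw [map_sub, res_app, ht, sub_self]))
        obtain ⟨b', hb'⟩ := ihx
        refine ⟨t * b', ?_⟩
        have hx' : x ∈ Ideal.map f.toAlgHom (maximalIdeal B ^ n) := hx
        have h2 : (r - f t) * x ∈ Ideal.map f.toAlgHom (maximalIdeal B ^ (n + 1)) := by
          rw [pow_succ', Ideal.map_mul]
          exact Ideal.mul_mem_mul hr hx'
        rw [map_mul, smul_eq_mul, show r * x - f t * f b' = (r - f t) * x + f t * (x - f b') by ring]
        exact add_mem h2 (Ideal.mul_mem_left _ _ hb')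
  obtain ⟨N, hN⟩ := ArtFunLib.exists_pow_eq_bot B
  intro a
  obtain ⟨b, hb⟩ := step N a
  rw [hN, Ideal.map_bot, Ideal.mem_bot, sub_eq_zero] at hb
  exact ⟨b, hb.symm⟩

/-- A bijection on relative cotangent spaces gives an essential surjection. -/
theorem essential_of_cotangent {A B : Art Λ k} (f : B ⟶ A)
    (h1 : Ideal.map (algebraMap Λ A) (RingHom.ker (algebraMap Λ k)) ⊔ Ideal.map f.toAlgHom (maximalIdeal B) ⊔
      maximalIdeal A ^ 2 = maximalIdeal A)
    (h2 : ∀ b ∈ maximalIdeal B,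
      f b ∈ Ideal.map (algebraMap Λ A) (RingHom.ker (algebraMap Λ k)) ⊔ maximalIdeal A ^ 2 →
        b ∈ Ideal.map (algebraMap Λ B) (RingHom.ker (algebraMap Λ k)) ⊔ maximalIdeal B ^ 2)
    (C : Art Λ k) (g : C ⟶ B) (hg : Function.Surjective (g ≫ f)) : Function.Surjective g := by
  refine surjective_of_cotangent g (le_antisymm ?_ fun b hb => ?_)
  · exact sup_le (sup_le (map_kerΛ_le B) (map_maximalIdeal_le g)) (Ideal.pow_le_self two_ne_zero)
  obtain ⟨c, hc⟩ := hg (f b)
  have hcm : c ∈ maximalIdeal C := (C.mem_maximalIdeal_iff c).mpr (by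
    rw [← res_app g c, ← res_app f (g c)]
    exact (congrArg A.res hc).trans ((res_app f b).trans ((B.mem_maximalIdeal_iff b).mp hb)))
  have hsub : b - g c ∈ maximalIdeal B :=
    sub_mem hb ((B.mem_maximalIdeal_iff _).mpr ((res_app g c).trans ((C.mem_maximalIdeal_iff c).mp hcm)))
  have h3 := h2 _ hsub (by
    rw [map_sub, show f (g c) = f b from hc, sub_self]
    exact zero_mem _)
  rw [← sub_add_cancel b (g c)]
  exact add_mem ((show _ ⊔ maximalIdeal B ^ 2 ≤ _ from sup_le (le_sup_left.trans le_sup_left) le_sup_right :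
    Ideal.map (algebraMap Λ B) (RingHom.ker (algebraMap Λ k)) ⊔ maximalIdeal B ^ 2 ≤
      Ideal.map (algebraMap Λ B) (RingHom.ker (algebraMap Λ k)) ⊔ Ideal.map g.toAlgHom (maximalIdeal C) ⊔
        maximalIdeal B ^ 2) h3)
    (Ideal.mem_sup_left (Ideal.mem_sup_right (Ideal.mem_map_of_mem _ hcm)))

variable [IsNoetherianRing Λ] [Module.Finite Λ k] [Algebra.IsSeparable (↥(algebraMap Λ k).range) k]

/-- An essential surjection is injective on relative cotangent spaces. -/
theorem ker_le_of_essential {A B : Art Λ k} (f : B ⟶ A) (hf : Function.Surjective f)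
    (he : ∀ (C : Art Λ k) (g : C ⟶ B), Function.Surjective (g ≫ f) → Function.Surjective g) :
    RingHom.ker f.toAlgHom ≤ Ideal.map (algebraMap Λ B) (RingHom.ker (algebraMap Λ k)) ⊔ maximalIdeal B ^ 2 := by
  intro x hx
  by_contra hxI
  have hxm : x ∈ maximalIdeal B := ArtFunLib.ker_le_maximalIdeal f hx
  obtain ⟨J, ⟨hIJ, hJm, hxJ⟩, hmax⟩ := (set_has_maximal_iff_noetherian.mpr inferInstance :
    ∀ a : Set (Ideal B), a.Nonempty → ∃ M' ∈ a, ∀ I ∈ a, ¬ M' < I)
    {J | Ideal.map (algebraMap Λ B) (RingHom.ker (algebraMap Λ k)) ⊔ maximalIdeal B ^ 2 ≤ J ∧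
      J ≤ maximalIdeal B ∧ x ∉ J}
    ⟨_, le_rfl, sup_le (map_kerΛ_le B) (Ideal.pow_le_self two_ne_zero), hxI⟩
  have hcov : maximalIdeal B ≤ J ⊔ RingHom.ker f.toAlgHom := by
    intro y hy
    by_contra hyJ
    refine hmax (J ⊔ Ideal.span {y}) ⟨hIJ.trans le_sup_left,
      sup_le hJm ((Ideal.span_singleton_le_iff_mem _).mpr hy), fun hxy => ?_⟩
      (lt_of_le_of_ne le_sup_left fun e =>
        hyJ (Ideal.mem_sup_left (e ▸ Ideal.mem_sup_right (Ideal.mem_span_singleton_self y))))
    obtain ⟨j, hj, t, ht, hjt⟩ := Submodule.mem_sup.mp hxy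
    obtain ⟨r, rfl⟩ := Ideal.mem_span_singleton.mp ht
    by_cases hr : r ∈ maximalIdeal B
    · refine hxJ (hjt ▸ add_mem hj (hIJ (Ideal.mem_sup_right ?_)))
      rw [sq]
      exact Ideal.mul_mem_mul hy hr
    · refine hyJ ((Ideal.mul_unit_mem_iff_mem _ (notMem_maximalIdeal.mp hr)).mp ?_)
      rw [show y * r = x - j by rw [← hjt]; ring]
      exact sub_mem (Ideal.mem_sup_right hx) (Ideal.mem_sup_left hj)
  -- a coefficient field of `B ⧸ J`
  let k₀ := (algebraMap Λ k).range
  have hkill : RingHom.ker (algebraMap Λ k).rangeRestrict ≤ RingHom.ker (algebraMap Λ (B ⧸ J)) := by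
    intro l hl
    have hl' : l ∈ RingHom.ker (algebraMap Λ k) := congrArg Subtype.val (RingHom.mem_ker.mp hl)
    rw [RingHom.mem_ker]
    change Ideal.Quotient.mk J (algebraMap Λ B l) = 0
    exact Ideal.Quotient.eq_zero_iff_mem.mpr (hIJ (Ideal.mem_sup_left (Ideal.mem_map_of_mem _ hl')))
  let j : k₀ →+* B ⧸ J :=
    RingHom.liftOfSurjective (algebraMap Λ k).rangeRestrict (algebraMap Λ k).rangeRestrict_surjective
      ⟨algebraMap Λ (B ⧸ J), hkill⟩
  have hj : ∀ l, j ((algebraMap Λ k).rangeRestrict l) = Ideal.Quotient.mk J (algebraMap Λ B l) :=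
    fun l => RingHom.liftOfRightInverse_comp_apply _ _ _ ⟨algebraMap Λ (B ⧸ J), hkill⟩ l
  letI : Algebra k₀ (B ⧸ J) := j.toAlgebra
  let ρ : B ⧸ J →+* k := Ideal.Quotient.lift J (B.res : B →+* k) fun b hb => (B.mem_maximalIdeal_iff b).mp (hJm hb)
  have hρ : ∀ b, ρ (Ideal.Quotient.mk J b) = B.res b := fun b => rfl
  let ρa : (B ⧸ J) →ₐ[k₀] k :=
    { ρ with
      commutes' := fun z => by
        obtain ⟨l, rfl⟩ := (algebraMap Λ k).rangeRestrict_surjective z
        change ρ (j _) = _
        rw [hj, hρ, AlgHom.commutes]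
        rfl }
  have hρs : Function.Surjective ρa := fun c => by
    obtain ⟨b, hb⟩ := B.res_surjective c
    exact ⟨Ideal.Quotient.mk J b, hb⟩
  have hnil : IsNilpotent (RingHom.ker (ρa : B ⧸ J →+* k)) := by
    refine ⟨2, le_bot_iff.mp ?_⟩
    rw [sq, Ideal.mul_le]
    intro a ha b hb
    obtain ⟨a, rfl⟩ := Ideal.Quotient.mk_surjective a
    obtain ⟨b, rfl⟩ := Ideal.Quotient.mk_surjective b
    rw [Ideal.mem_bot, ← map_mul]
    refine Ideal.Quotient.eq_zero_iff_mem.mpr (hIJ (Ideal.mem_sup_right ?_))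
    rw [sq]
    exact Ideal.mul_mem_mul ((B.mem_maximalIdeal_iff a).mpr ha) ((B.mem_maximalIdeal_iff b).mpr hb)
  letI : Algebra Λ k₀ := (algebraMap Λ k).rangeRestrict.toAlgebra
  haveI : IsScalarTower Λ k₀ k := IsScalarTower.of_algebraMap_eq fun l => rfl
  haveI : Module.Finite k₀ k := Module.Finite.of_restrictScalars_finite Λ k₀ k
  have hF : IsField k₀ := isField_of_isIntegral_of_isField (S := k) Subtype.val_injective (Field.toIsField k)
  letI : Field k₀ := hF.toField
  haveI : Algebra.IsSeparable k₀ k := ‹Algebra.IsSeparable (↥(algebraMap Λ k).range) k›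
  haveI : Algebra.FormallyEtale k₀ k := Algebra.FormallyEtale.of_isSeparable k₀ k
  let s : k →ₐ[k₀] B ⧸ J := Algebra.FormallySmooth.liftOfSurjective (AlgHom.id k₀ k) ρa hρs hnil
  have hs : ∀ c, ρ (s c) = c := fun c =>
    Algebra.FormallySmooth.liftOfSurjective_apply (AlgHom.id k₀ k) ρa hρs hnil c
  -- the subalgebra of `B` lifting this coefficient field
  let S : Subalgebra Λ B :=
    { (s : k →+* B ⧸ J).range.toSubsemiring.comap (Ideal.Quotient.mk J) with
      algebraMap_mem' := fun l => ⟨algebraMap k₀ k ((algebraMap Λ k).rangeRestrict l), by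
        exact (s.commutes _).trans (hj l)⟩ }
  have hmem : ∀ b, b ∈ S ↔ ∃ c, s c = Ideal.Quotient.mk J b := fun b => Iff.rfl
  haveI : IsArtinian Λ B := ArtFunLib.isArtinian_art B
  have hunit : ∀ c : S, IsUnit (c : B) → IsUnit c := fun c hc => by
    have hinj : Function.Injective (LinearMap.mulLeft Λ c : S →ₗ[Λ] S) := fun a b hab =>
      Subtype.ext (hc.mul_left_cancel (congrArg Subtype.val hab))
    haveI : IsArtinian Λ S := isArtinian_of_injective S.val.toLinearMap Subtype.val_injective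
    obtain ⟨d, hd⟩ := IsArtinian.surjective_of_injective_endomorphism _ hinj 1
    exact IsUnit.of_mul_eq_one d hd
  haveI : IsLocalRing S := IsLocalRing.of_nonunits_add fun a b ha hb hab => by
    have key : ∀ c : S, c ∈ nonunits S → (c : B) ∈ maximalIdeal B := fun c hc =>
      (mem_maximalIdeal _).mpr fun h => hc (hunit c h)
    exact (mem_maximalIdeal _).mp (add_mem (key a ha) (key b hb)) (hab.map S.val)
  haveI : IsArtinianRing S := by
    haveI : IsArtinian Λ S := isArtinian_of_injective S.val.toLinearMap Subtype.val_injective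
    exact isArtinian_of_tower Λ inferInstance
  let C : Art Λ k := Art.of S (B.res.comp S.val) fun c => by
    obtain ⟨b, hb⟩ := Ideal.Quotient.mk_surjective (s c)
    exact ⟨⟨b, (hmem b).mpr ⟨c, hb.symm⟩⟩, (hρ b).symm.trans (by rw [hb, hs])⟩
  let g : C ⟶ B := Art.homMk S.val rfl
  have hgf : Function.Surjective (g ≫ f) := fun a => by
    obtain ⟨b, rfl⟩ := hf a
    obtain ⟨b₀, hb₀⟩ := Ideal.Quotient.mk_surjective (s (B.res b))
    have hd : b - b₀ ∈ maximalIdeal B := (B.mem_maximalIdeal_iff _).mpr (by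
      rw [map_sub, ← hρ b₀, hb₀, hs, sub_self])
    obtain ⟨u, hu, w, hw, huw⟩ := Submodule.mem_sup.mp (hcov hd)
    refine ⟨⟨b - w, (hmem _).mpr ⟨B.res b, ?_⟩⟩, ?_⟩
    · rw [← hb₀, show b - w = b₀ + u by linear_combination -huw, map_add,
        Ideal.Quotient.eq_zero_iff_mem.mpr hu, add_zero]
    · show f (b - w) = f b
      rw [map_sub, RingHom.mem_ker.mp hw, sub_zero]
  obtain ⟨⟨y, hy⟩, hyx⟩ := he C g hgf x
  obtain rfl : y = x := hyx
  obtain ⟨c, hc⟩ := (hmem y).mp hy
  have hc0 : c = 0 := by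
    rw [← hs c, hc, hρ]
    exact (B.mem_maximalIdeal_iff y).mp hxm
  rw [hc0, map_zero] at hc
  exact hxJ (Ideal.Quotient.eq_zero_iff_mem.mp hc.symm)

/-- Essential surjections are exactly the bijections on relative cotangent spaces. -/
theorem essential_iff {A B : Art Λ k} (f : B ⟶ A) :
    (Function.Surjective f ∧ ∀ (C : ArtFun.Art Λ k) (g : C ⟶ B), Function.Surjective (g ≫ f) → Function.Surjective g) ↔
      (Ideal.map (algebraMap Λ A) (RingHom.ker (algebraMap Λ k)) ⊔ Ideal.map f.toAlgHom (maximalIdeal B) ⊔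
          maximalIdeal A ^ 2 = maximalIdeal A ∧
        ∀ b ∈ maximalIdeal B,
          f b ∈ Ideal.map (algebraMap Λ A) (RingHom.ker (algebraMap Λ k)) ⊔ maximalIdeal A ^ 2 →
            b ∈ Ideal.map (algebraMap Λ B) (RingHom.ker (algebraMap Λ k)) ⊔ maximalIdeal B ^ 2) := by
  constructor
  · rintro ⟨hf, he⟩
    refine ⟨?_, fun b hb hfb => ?_⟩
    · rw [map_maximalIdeal_eq f hf]
      exact le_antisymm (sup_le (sup_le (map_kerΛ_le A) le_rfl) (Ideal.pow_le_self two_ne_zero))
        (le_sup_of_le_left le_sup_right)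
    · rw [← map_kerΛ_map f, ← map_maximalIdeal_eq f hf, ← Ideal.map_pow, ← Ideal.map_sup] at hfb
      obtain ⟨y, hy, hyb⟩ := (Ideal.mem_map_iff_of_surjective f.toAlgHom hf).mp hfb
      have hk : b - y ∈ RingHom.ker f.toAlgHom := by
        rw [RingHom.mem_ker, map_sub, hyb, sub_self]
      have := add_mem (ker_le_of_essential f hf he hk) hy
      rwa [sub_add_cancel] at this
  · rintro ⟨h1, h2⟩
    exact ⟨surjective_of_cotangent f h1, fun C g => essential_of_cotangent f h1 h2 C g⟩

end Groth.Agent.EssSurj
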