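import Groth.Agent.EssSurj.Basic

/-!
# Essential surjections through differentials
-/

set_option autoImplicit false
set_option linter.unusedSectionVars false
set_option linter.style.haveILetI false

universe u

open CategoryTheory ArtFun ArtFun.Art IsLocalRing
open scoped TensorProduct

namespace Groth.Agent.EssSurj

section Generic

variable {Λ B k : Type u} [CommRing Λ] [CommRing B] [Field k] [Algebra Λ B] [Algebra B k] [Algebra Λ k]
  [IsScalarTower Λ B k]

/-- A derivation into a `k`-module gives a linear map out of the differentials tensored with `k`. -/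
theorem exists_kLift {M : Type u} [AddCommGroup M] [Module k M] (D : B → M)
    (hadd : ∀ a b, D (a + b) = D a + D b) (hΛ : ∀ l, D (algebraMap Λ B l) = 0)
    (hmul : ∀ a b, D (a * b) = algebraMap B k a • D b + algebraMap B k b • D a) :
    ∃ φ : k ⊗[B] Ω[B⁄Λ] →ₗ[k] M, ∀ b, φ (1 ⊗ₜ KaehlerDifferential.D Λ B b) = D b := by
  letI : Module B M := Module.compHom M (algebraMap B k)
  letI : Module Λ M := Module.compHom M (algebraMap Λ k)
  haveI : IsScalarTower B k M := ⟨fun x y z => by
    show (x • y) • z = algebraMap B k x • (y • z)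
    rw [Algebra.smul_def, mul_smul]⟩
  haveI : IsScalarTower Λ B M := ⟨fun x y z => by
    show algebraMap B k (x • y) • z = algebraMap Λ k x • (algebraMap B k y • z)
    rw [Algebra.smul_def, map_mul, ← IsScalarTower.algebraMap_apply, mul_smul]⟩
  let d : Derivation Λ B M :=
    { toFun := D
      map_add' := hadd
      map_smul' := fun l b => by
        show D (l • b) = algebraMap Λ k l • D b
        rw [Algebra.smul_def, hmul, hΛ, smul_zero, add_zero, ← IsScalarTower.algebraMap_apply]
      map_one_eq_zero' := by
        show D 1 = 0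
        simpa using hΛ 1
      leibniz' := fun a b => hmul a b }
  exact ⟨d.liftKaehlerDifferential.liftBaseChange k, fun b => by
    rw [LinearMap.liftBaseChange_tmul, one_smul, Derivation.liftKaehlerDifferential_comp_D]
    rfl⟩

theorem span_kD :
    Submodule.span k (Set.range fun b : B => (1 : k) ⊗ₜ[B] KaehlerDifferential.D Λ B b) = ⊤ := by
  refine eq_top_iff.mpr fun z hz => ?_
  clear hz
  induction z using TensorProduct.induction_on with
  | zero => exact zero_mem _
  | add x y hx hy => exact add_mem hx hy
  | tmul c x =>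
    rw [show c ⊗ₜ[B] x = c • ((1 : k) ⊗ₜ[B] x) by rw [TensorProduct.smul_tmul', smul_eq_mul, mul_one]]
    refine Submodule.smul_mem _ _ ?_
    have hx : x ∈ Submodule.span B (Set.range (KaehlerDifferential.D Λ B)) := by
      rw [KaehlerDifferential.span_range_derivation]; trivial
    induction hx using Submodule.span_induction with
    | mem y hy => obtain ⟨b, rfl⟩ := hy; exact Submodule.subset_span ⟨b, rfl⟩
    | zero => rw [TensorProduct.tmul_zero]; exact zero_mem _
    | add y z _ _ hy hz => rw [TensorProduct.tmul_add]; exact add_mem hy hz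
    | smul r y _ hy =>
      rw [TensorProduct.tmul_smul, ← IsScalarTower.algebraMap_smul k r ((1 : k) ⊗ₜ[B] y)]
      exact Submodule.smul_mem _ _ hy

end Generic

variable {Λ : Type u} {k : Type u} [CommRing Λ] [Field k] [Algebra Λ k]

/-- A map is surjective when the relative differentials at the residue field vanish. -/
theorem surjective_of_kaehler {A B : Art Λ k} (f : B ⟶ A)
    (h : letI : Algebra B A := f.toAlgHom.toRingHom.toAlgebra
      letI : Algebra A k := A.res.toRingHom.toAlgebra
      Subsingleton (k ⊗[A] Ω[A⁄B])) : Function.Surjective f := by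
  letI : Algebra B A := f.toAlgHom.toRingHom.toAlgebra
  letI : Algebra A k := A.res.toRingHom.toAlgebra
  letI : Algebra B k := B.res.toRingHom.toAlgebra
  haveI : IsScalarTower B A k := IsScalarTower.of_algebraMap_eq fun b => (res_app f b).symm
  haveI := h
  refine surjective_of_cotangent f (le_antisymm
    (sup_le (sup_le (map_kerΛ_le A) (map_maximalIdeal_le f)) (Ideal.pow_le_self two_ne_zero)) fun a ha => ?_)
  let J : Ideal A := Ideal.map f.toAlgHom (maximalIdeal B) ⊔ maximalIdeal A ^ 2
  have hJ : J ≤ maximalIdeal A := sup_le (map_maximalIdeal_le f) (Ideal.pow_le_self two_ne_zero)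
  have hker : RingHom.ker B.res.toRingHom ≤
      RingHom.ker ((Ideal.Quotient.mk J).comp f.toAlgHom.toRingHom) := fun b hb =>
    Ideal.Quotient.eq_zero_iff_mem.mpr
      (Ideal.mem_sup_left (Ideal.mem_map_of_mem _ ((B.mem_maximalIdeal_iff b).mpr hb)))
  let s : k →+* A ⧸ J := RingHom.liftOfSurjective B.res.toRingHom B.res_surjective
    ⟨(Ideal.Quotient.mk J).comp f.toAlgHom.toRingHom, hker⟩
  have hs : ∀ b, s (B.res b) = Ideal.Quotient.mk J (f b) :=
    fun b => RingHom.liftOfRightInverse_comp_apply _ _ _
      ⟨(Ideal.Quotient.mk J).comp f.toAlgHom.toRingHom, hker⟩ b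
  letI : Module k (A ⧸ J) := Module.compHom _ s
  let D : A → A ⧸ J := fun x => Ideal.Quotient.mk J x - s (A.res x)
  have hD2 : ∀ x y, D x * D y = 0 := fun x y => by
    obtain ⟨bx, hbx⟩ := B.res_surjective (A.res x)
    obtain ⟨bY, hby⟩ := B.res_surjective (A.res y)
    simp only [D, ← hbx, ← hby, hs, ← map_sub, ← map_mul]
    refine Ideal.Quotient.eq_zero_iff_mem.mpr (Ideal.mem_sup_right ?_)
    rw [sq]
    exact Ideal.mul_mem_mul ((A.mem_maximalIdeal_iff _).mpr (by rw [map_sub, res_app, hbx, sub_self]))
      ((A.mem_maximalIdeal_iff _).mpr (by rw [map_sub, res_app, hby, sub_self]))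
  obtain ⟨φ, hφ⟩ := exists_kLift (Λ := B) (B := A) (k := k) D
    (fun x y => by simp only [D, map_add]; ring)
    (fun b => by
      show Ideal.Quotient.mk J (f b) - s (A.res (f b)) = 0
      rw [res_app, hs, sub_self])
    (fun x y => by
      show D (x * y) = s (A.res x) * D y + s (A.res y) * D x
      have h2 := hD2 x y
      simp only [D, map_mul] at h2 ⊢
      linear_combination h2)
  have h0 : D a = 0 := by
    rw [← hφ a, Subsingleton.elim ((1 : k) ⊗ₜ[A] KaehlerDifferential.D B A a) 0, map_zero]
  simp only [D, (A.mem_maximalIdeal_iff a).mp ha, map_zero, sub_zero] at h0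
  exact (sup_le (le_sup_right.trans le_sup_left) le_sup_right :
    J ≤ Ideal.map (algebraMap Λ A) (RingHom.ker (algebraMap Λ k)) ⊔ Ideal.map f.toAlgHom (maximalIdeal B) ⊔
      maximalIdeal A ^ 2) (Ideal.Quotient.eq_zero_iff_mem.mp h0)

/-- An Artinian algebra over a Noetherian base with finite residue field is module finite. -/
theorem finite_art [IsNoetherianRing Λ] [Module.Finite Λ k] (A : Art Λ k) : Module.Finite Λ A := by
  suffices ∀ {M : Type u} [AddCommGroup M] [Module A M] [Module Λ M] [IsScalarTower Λ A M],
      IsFiniteLength A M → IsNoetherian Λ M by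
    haveI := this (M := A) (isFiniteLength_iff_isNoetherian_isArtinian.mpr ⟨inferInstance, inferInstance⟩)
    infer_instance
  intro M _ _ _ _ h
  revert ‹Module Λ M› ‹IsScalarTower Λ A M›
  induction h with
  | of_subsingleton => intros; infer_instance
  | @of_simple_quotient M _ _ N hsimp _ ih =>
    intro _ _
    have hN : IsNoetherian Λ (N.restrictScalars Λ) := ih
    have hq : IsNoetherian Λ (M ⧸ N) := by
      obtain ⟨I, hI, ⟨e⟩⟩ := isSimpleModule_iff_quot_maximal.mp hsimp
      rw [IsLocalRing.eq_maximalIdeal hI] at e
      let g : (A ⧸ maximalIdeal A) →ₗ[Λ] k :=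
        (Ideal.Quotient.liftₐ _ A.res fun a ha => (A.mem_maximalIdeal_iff a).mp ha).toLinearMap
      have hg : Function.Injective g := by
        refine (injective_iff_map_eq_zero g).mpr fun x hx => ?_
        obtain ⟨a, rfl⟩ := Ideal.Quotient.mk_surjective x
        exact Ideal.Quotient.eq_zero_iff_mem.mpr ((A.mem_maximalIdeal_iff a).mpr hx)
      exact isNoetherian_of_injective (g ∘ₗ (e.restrictScalars Λ).toLinearMap) (hg.comp e.injective)
    exact isNoetherian_of_range_eq_ker (N.restrictScalars Λ).subtype ((N.mkQ).restrictScalars Λ)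
      (by ext; simp)

theorem essential_iff_kaehler [IsNoetherianRing Λ] [Module.Finite Λ k] {A B : Art Λ k} (f : B ⟶ A) :
    letI : Algebra B A := f.toAlgHom.toRingHom.toAlgebra
    letI : Algebra A k := A.res.toRingHom.toAlgebra
    letI : Algebra B k := B.res.toRingHom.toAlgebra
    (Function.Surjective f ∧ ∀ (C : ArtFun.Art Λ k) (g : C ⟶ B), Function.Surjective (g ≫ f) → Function.Surjective g) ↔
      (Subsingleton (k ⊗[A] Ω[A⁄B]) ∧
        Module.finrank k (k ⊗[B] Ω[B⁄Λ]) = Module.finrank k (k ⊗[A] Ω[A⁄Λ])) := by
  letI : Algebra B A := f.toAlgHom.toRingHom.toAlgebra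
  letI : Algebra A k := A.res.toRingHom.toAlgebra
  letI : Algebra B k := B.res.toRingHom.toAlgebra
  haveI : IsScalarTower B A k := IsScalarTower.of_algebraMap_eq fun b => (res_app f b).symm
  haveI : IsScalarTower Λ B k := IsScalarTower.of_algebraMap_eq fun l => (B.res.commutes l).symm
  haveI : IsScalarTower Λ A k := IsScalarTower.of_algebraMap_eq fun l => (A.res.commutes l).symm
  -- the map between the two spaces
  obtain ⟨ψ, hψ⟩ := exists_kLift (Λ := Λ) (B := B) (k := k)
    (fun b => (1 : k) ⊗ₜ[A] KaehlerDifferential.D Λ A (f b))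
    (fun a b => by rw [map_add, map_add, TensorProduct.tmul_add])
    (fun l => by rw [AlgHom.commutes, Derivation.map_algebraMap, TensorProduct.tmul_zero])
    (fun a b => by
      rw [map_mul, Derivation.leibniz, TensorProduct.tmul_add, TensorProduct.tmul_smul, TensorProduct.tmul_smul,
        ← IsScalarTower.algebraMap_smul k (f a), ← IsScalarTower.algebraMap_smul k (f b)]
      congr 2
      · exact res_app f a
      · exact res_app f b)
  have hψs : Function.Surjective f → Function.Surjective ψ := fun hf => by
    rw [← LinearMap.range_eq_top, eq_top_iff, ← span_kD (Λ := Λ) (B := A) (k := k), Submodule.span_le]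
    rintro _ ⟨a, rfl⟩
    obtain ⟨b, rfl⟩ := hf a
    exact ⟨_, hψ b⟩
  constructor
  · rintro ⟨hf, he⟩
    haveI : Subsingleton (Ω[A⁄B]) := KaehlerDifferential.subsingleton_of_surjective B A hf
    refine ⟨inferInstance, (LinearEquiv.ofBijective ψ ⟨?_, hψs hf⟩).finrank_eq⟩
    -- every element of the kernel of `f` has vanishing differential
    have hker : ∀ i, f i = 0 → (1 : k) ⊗ₜ[B] KaehlerDifferential.D Λ B i = 0 := by
      intro i hi
      by_contra hne
      obtain ⟨χ, hχ⟩ := Module.Projective.exists_dual_ne_zero k hne
      let E : B → k := fun b => χ ((1 : k) ⊗ₜ[B] KaehlerDifferential.D Λ B b)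
      have hEa : ∀ a b, E (a + b) = E a + E b := fun a b => by
        simp only [E, map_add, TensorProduct.tmul_add]
      have hEl : ∀ l, E (algebraMap Λ B l) = 0 := fun l => by
        simp only [E, Derivation.map_algebraMap, TensorProduct.tmul_zero, map_zero]
      have hEm : ∀ a b, E (a * b) = B.res a * E b + B.res b * E a := fun a b => by
        show χ _ = _
        rw [Derivation.leibniz, TensorProduct.tmul_add, map_add, TensorProduct.tmul_smul, TensorProduct.tmul_smul,
          ← IsScalarTower.algebraMap_smul k a, ← IsScalarTower.algebraMap_smul k b, map_smul, map_smul]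
        rfl
      let S : Subalgebra Λ B :=
        { carrier := {b | E b = 0}
          mul_mem' := fun {a b} ha hb => by
            show E (a * b) = 0
            rw [hEm, ha, hb, mul_zero, mul_zero, add_zero]
          add_mem' := fun {a b} ha hb => by
            show E (a + b) = 0
            rw [hEa, ha, hb, add_zero]
          algebraMap_mem' := hEl }
      have hi0 : B.res i = 0 := by rw [← res_app f i, hi, map_zero]
      have hcorr : ∀ b, ∃ t, b + t * i ∈ S := fun b => by
        obtain ⟨t, ht⟩ := B.res_surjective (- E b / E i)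
        refine ⟨t, ?_⟩
        show E _ = 0
        rw [hEa, hEm, hi0, zero_mul, add_zero, ht, div_mul_cancel₀ _ hχ, add_neg_cancel]
      haveI : IsArtinian Λ B := ArtFunLib.isArtinian_art B
      haveI : IsArtinian Λ S := isArtinian_of_injective S.val.toLinearMap Subtype.val_injective
      have hunit : ∀ c : S, IsUnit (c : B) → IsUnit c := fun c hc => by
        have hinj : Function.Injective (LinearMap.mulLeft Λ c : S →ₗ[Λ] S) := fun a b hab =>
          Subtype.ext (hc.mul_left_cancel (congrArg Subtype.val hab))
        obtain ⟨d, hd⟩ := IsArtinian.surjective_of_injective_endomorphism _ hinj 1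
        exact IsUnit.of_mul_eq_one d hd
      haveI : IsLocalRing S := IsLocalRing.of_nonunits_add fun a b ha hb hab => by
        have key : ∀ c : S, c ∈ nonunits S → (c : B) ∈ maximalIdeal B := fun c hc =>
          (mem_maximalIdeal _).mpr fun h => hc (hunit c h)
        exact (mem_maximalIdeal _).mp (add_mem (key a ha) (key b hb)) (hab.map S.val)
      haveI : IsArtinianRing S := isArtinian_of_tower Λ inferInstance
      let C : Art Λ k := Art.of S (B.res.comp S.val) fun c => by
        obtain ⟨b, rfl⟩ := B.res_surjective c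
        obtain ⟨t, ht⟩ := hcorr b
        exact ⟨⟨_, ht⟩, by
          show B.res (b + t * i) = B.res b
          rw [map_add, map_mul, hi0, mul_zero, add_zero]⟩
      let g : C ⟶ B := Art.homMk S.val rfl
      have hgf : Function.Surjective (g ≫ f) := fun a => by
        obtain ⟨b, rfl⟩ := hf a
        obtain ⟨t, ht⟩ := hcorr b
        exact ⟨⟨_, ht⟩, by
          show f (b + t * i) = f b
          rw [map_add, map_mul, hi, mul_zero, add_zero]⟩
      obtain ⟨⟨y, hy⟩, hyi⟩ := he C g hgf i
      obtain rfl : y = i := hyi
      exact hχ hy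
    -- so `ψ` has an inverse
    choose sec hsec using hf
    have hd : ∀ x y, f x = f y →
        (1 : k) ⊗ₜ[B] KaehlerDifferential.D Λ B x = (1 : k) ⊗ₜ[B] KaehlerDifferential.D Λ B y := fun x y hxy => by
      rw [← sub_eq_zero, ← TensorProduct.tmul_sub, ← map_sub]
      exact hker _ (by rw [map_sub, hxy, sub_self])
    obtain ⟨χ, hχ⟩ := exists_kLift (Λ := Λ) (B := A) (k := k)
      (fun a => (1 : k) ⊗ₜ[B] KaehlerDifferential.D Λ B (sec a))
      (fun a b => by
        rw [← TensorProduct.tmul_add, ← map_add]
        exact hd _ _ (by rw [hsec, map_add, hsec, hsec]))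
      (fun l => by
        rw [hd (sec (algebraMap Λ A l)) (algebraMap Λ B l) (by rw [hsec, AlgHom.commutes]),
          Derivation.map_algebraMap, TensorProduct.tmul_zero])
      (fun a b => by
        rw [hd (sec (a * b)) (sec a * sec b) (by rw [hsec, map_mul, hsec, hsec]), Derivation.leibniz,
          TensorProduct.tmul_add, TensorProduct.tmul_smul, TensorProduct.tmul_smul,
          ← IsScalarTower.algebraMap_smul k (sec a), ← IsScalarTower.algebraMap_smul k (sec b)]
        congr 2
        · exact (res_app f _).symm.trans (congrArg A.res (hsec a))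
        · exact (res_app f _).symm.trans (congrArg A.res (hsec b)))
    have hinv : χ.comp ψ = LinearMap.id := by
      refine LinearMap.ext_on_range (span_kD (Λ := Λ) (B := B) (k := k)) fun b => ?_
      rw [LinearMap.comp_apply, hψ, hχ, LinearMap.id_apply]
      exact hd _ _ (hsec _)
    exact fun x y hxy => by
      have := congrArg χ hxy
      rwa [← LinearMap.comp_apply, ← LinearMap.comp_apply, hinv] at this
  · rintro ⟨hsub, hdim⟩
    have hf := surjective_of_kaehler f hsub
    refine ⟨hf, fun C g hgf => surjective_of_kaehler g ?_⟩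
    haveI := finite_art B
    haveI := finite_art A
    haveI : Module.Finite k (k ⊗[B] Ω[B⁄Λ]) := inferInstance
    haveI : Module.Finite k (k ⊗[A] Ω[A⁄Λ]) := inferInstance
    have hinj : Function.Injective ψ :=
      (LinearMap.injective_iff_surjective_of_finrank_eq_finrank hdim).mpr (hψs hf)
    letI : Algebra C B := g.toAlgHom.toRingHom.toAlgebra
    letI : Algebra C k := C.res.toRingHom.toAlgebra
    haveI : IsScalarTower C B k := IsScalarTower.of_algebraMap_eq fun c => (res_app g c).symm
    haveI : IsScalarTower Λ C B := IsScalarTower.of_algebraMap_eq fun l => (g.toAlgHom.commutes l).symm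
    obtain ⟨φ, hφ⟩ := exists_kLift (Λ := Λ) (B := B) (k := k)
      (fun b => (1 : k) ⊗ₜ[B] KaehlerDifferential.D C B b)
      (fun a b => by rw [map_add, TensorProduct.tmul_add])
      (fun l => by rw [IsScalarTower.algebraMap_apply Λ C B, Derivation.map_algebraMap, TensorProduct.tmul_zero])
      (fun a b => by
        rw [Derivation.leibniz, TensorProduct.tmul_add, TensorProduct.tmul_smul, TensorProduct.tmul_smul,
          ← IsScalarTower.algebraMap_smul k a, ← IsScalarTower.algebraMap_smul k b])
    refine subsingleton_of_forall_eq 0 fun z => ?_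
    have hz : z ∈ (⊥ : Submodule k (k ⊗[B] Ω[B⁄C])) := by
      suffices h : (⊤ : Submodule k (k ⊗[B] Ω[B⁄C])) ≤ ⊥ from h Submodule.mem_top
      rw [← span_kD (Λ := C) (B := B) (k := k), Submodule.span_le]
      rintro _ ⟨b, rfl⟩
      obtain ⟨c, hc⟩ := hgf (f b)
      have h0 : (1 : k) ⊗ₜ[B] KaehlerDifferential.D Λ B (b - g c) = 0 := hinj (by
        rw [hψ, map_zero, map_sub f.toAlgHom, show f (g c) = f b from hc, sub_self, map_zero,
          TensorProduct.tmul_zero])
      have h1 := congrArg φ h0
      rw [hφ, map_zero, map_sub, show g c = algebraMap C B c from rfl, Derivation.map_algebraMap, sub_zero] at h1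
      exact h1
    exact hz

end Groth.Agent.EssSurj
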